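import Groth.Agent.RedSub.H670.PosRoots
import Groth.Agent.Sga3B.BorLB3991
import Groth.Agent.Sga3B.Parab.PcP
import Groth.Agent.Sga3B.Parab.PbFinal910

/-!
# A Borel subgroup containing the torus of a splitting is locally standard
-/

set_option autoImplicit false

universe u

open CategoryTheory MonoidalCategory CartesianMonoidalCategory MonObj GrpObj AlgebraicGeometry

namespace Groth.Agent.RedSub.H670.LocStd

open Groth.Agent.Sga3B Groth.Agent.Sga3B.Parab Groth.Agent.Sga3B.BorStd991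
  Groth.Agent.Sga3B.BorRP478

variable {S : Scheme.{u}} {G B : Over S} [GrpObj G] [GrpObj B]

lemma mono_of_isBorel {i : B ⟶ G} (hB : Red.IsBorel i) : Mono i := by
  have h2 : IsClosedImmersion i.left := hB.2.1
  have : Mono i.left := inferInstance
  exact Over.mono_of_mono_left i

/-- Near a point, a Borel subgroup containing the torus of a splitting is `P_G(μ)` for a
cocharacter `μ` of the torus. -/
theorem exists_open_isDynP (D : Red.SplitRed G) (i : B ⟶ G) (hB : Red.IsBorel i) (t : D.T ⟶ B)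
    (ht : t ≫ i = D.i) (s : S) :
    ∃ (V : S.Opens), s ∈ V ∧ ∃ mu : D.M →+ ℤ,
      ∀ (S₁ : Scheme.{u}) (w : S₁ ⟶ S), Set.range w ⊆ (V : Set S) →
        IsDynP (bcLam (coch D mu) w) ((Over.pullback w).map i) := by
  have h1 : IsMonHom i := hB.1
  have h3 : Mono i := mono_of_isBorel hB
  have hcl : IsClosedImmersion i.left := hB.2.1
  have hmt : Red.IsMaximalTorus t :=
    BorSub908.isMaximalTorus_of_comp i t (by rw [ht]; exact D.maximalTorus)
  have htm : IsMonHom t := hmt.1
  have hp := BorLB3991.isParabolic_of_isBorel hB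
  obtain ⟨mu, hmu⟩ := exists_cochar_geom PbFinal.dynK2 D.reductive hp hmt D.split s
  have hm : IsMonHom (Red.DSmap S mu) := isMonHom_DSmap mu
  have hsm : IsMonHom D.split.inv.hom.hom := D.split.inv.hom.isMonHom_hom
  obtain ⟨V, hsV, hV⟩ := Parab.exists_open_isDynP PbFinal.dynK1 PbFinal.dynK2 D.reductive hp
    (Red.DSmap S mu ≫ D.split.inv.hom.hom ≫ t) s (by
      simpa only [Category.assoc] using hmu)
  refine ⟨V, hsV, mu, fun S₁ w hw => ?_⟩
  have h4 := hV S₁ w hw
  have h5 : coch D mu = (Red.DSmap S mu ≫ D.split.inv.hom.hom ≫ t) ≫ i := by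
    rw [coch_eq, ← ht]
    simp only [Category.assoc]
  rw [h5]
  exact h4

/-- Near a point, a Borel subgroup containing the torus of a splitting is standard for some base. -/
theorem exists_open_isStd (D : Red.SplitRed G) (i : B ⟶ G) (hB : Red.IsBorel i) (t : D.T ⟶ B)
    (ht : t ≫ i = D.i) (s : S) :
    ∃ (V : S.Opens), s ∈ V ∧ ∃ b : D.P.Base,
      IsStd ((Over.pullback V.ι).map i) { SplitBc264.splitBc V.ι D with base := b } := by
  obtain ⟨V, hsV, mu, hV⟩ := exists_open_isDynP D i hB t ht s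
  have hr : Set.range V.ι ⊆ (V : Set S) := by
    rw [Scheme.Opens.range_ι]
  have hP := hV _ V.ι hr
  have : Nonempty (V : Scheme.{u}) := ⟨⟨s, hsV⟩⟩
  have hq : LocallyQuasiFinite V.ι := inferInstance
  obtain ⟨b, hb⟩ := BorLB3991.exists_isStd (SplitBc264.splitBc V.ι D) mu
    (RedCover147.isBorel_bc V.ι hB) (by
      rw [BorLB3991.coch_bc]
      exact hP)
  exact ⟨V, hsV, b, hb⟩

/-- The root homomorphisms which factor through a standard Borel subgroup (after base change). -/
theorem exists_factor_iff {S' : Scheme.{u}} [Nonempty S'] (c : S' ⟶ S) (D : Red.SplitRed G)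
    (i : B ⟶ G) (b : D.P.Base)
    (h : IsStd ((Over.pullback c).map i) { SplitBc264.splitBc c D with base := b }) (a : D.idx) :
    (∃ v : Red.bc c (Red.Ga S) ⟶ Red.bc c B,
      v ≫ (Over.pullback c).map i = (Over.pullback c).map (D.u a)) ↔ b.IsPos a := by
  constructor
  · rintro ⟨v, hv⟩
    refine BorLB3991.isPos_of_isStd h (a := a) (v := (SplitBc264.gaBcIso c).inv.hom.hom ≫ v) ?_
    rw [Category.assoc, hv]
    rfl
  · intro ha
    obtain ⟨v, hv⟩ := h.root a ha
    refine ⟨(SplitBc264.gaBcIso c).hom.hom.hom ≫ v, ?_⟩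
    rw [Category.assoc, hv]
    change (SplitBc264.gaBcIso c).hom.hom.hom ≫ (SplitBc264.gaBcIso c).inv.hom.hom ≫
      (Over.pullback c).map (D.u a) = _
    rw [← Category.assoc, SplitBc264.map_hom_inv, Category.id_comp]

/-- The statement S3988. -/
theorem main (D : Red.SplitRed G) (i : B ⟶ G) (hB : Red.IsBorel i) (t : D.T ⟶ B)
    (ht : t ≫ i = D.i) (s : S) :
    ∃ (V : S.Opens), s ∈ V ∧ ∃ b : D.P.Base, ∀ a : D.idx,
      (∃ v : Red.bc V.ι (Red.Ga S) ⟶ Red.bc V.ι B,
        v ≫ (Over.pullback V.ι).map i = (Over.pullback V.ι).map (D.u a)) ↔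
        a ∈ _root_.RedSub.posRoots D.P b := by
  obtain ⟨V, hsV, b, hb⟩ := exists_open_isStd D i hB t ht s
  have : Nonempty (V : Scheme.{u}) := ⟨⟨s, hsV⟩⟩
  refine ⟨V, hsV, b, fun a => ?_⟩
  rw [PosRoots.mem_posRoots_iff]
  exact exists_factor_iff V.ι D i b hb a

end Groth.Agent.RedSub.H670.LocStd
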