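import Groth.Prelude.Def_RedSub
import Mathlib.LinearAlgebra.RootSystem.Base

/-!
# `RedSub.posRoots` and `RedSub.negRoots` through Mathlib's `RootPairing.Base.IsPos`
-/

set_option autoImplicit false

namespace Groth.Agent.RedSub.H670.PosRoots

variable {idx M N : Type} [AddCommGroup M] [AddCommGroup N]
variable (P : RootPairing idx ℤ M N) (b : P.Base)


lemma exists_nat_of_mem_closure {m : M}
    (hm : m ∈ AddSubmonoid.closure (P.root '' (b.support : Set idx))) :
    ∃ f : idx → ℕ, m = ∑ j ∈ b.support, (f j : ℤ) • P.root j := by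
  classical
  refine AddSubmonoid.closure_induction ?_ ⟨0, by simp⟩ ?_ hm
  · rintro - ⟨j, hj, rfl⟩
    refine ⟨Pi.single j 1, ?_⟩
    rw [Finset.sum_eq_single_of_mem j hj]
    · simp
    · intro k _ hk
      simp [Pi.single_eq_of_ne hk]
  · intro _ _ _ _ ⟨f, hf⟩ ⟨g, hg⟩
    refine ⟨f + g, ?_⟩
    rw [hf, hg, ← Finset.sum_add_distrib]
    refine Finset.sum_congr rfl fun j _ => ?_
    rw [Pi.add_apply, Nat.cast_add, add_smul]


/-- Positive roots in the sense of `RedSub.posRoots`. -/
theorem mem_posRoots_iff (a : idx) : a ∈ _root_.RedSub.posRoots P b ↔ b.IsPos a := by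
  constructor
  · intro h
    obtain ⟨f, hf⟩ := exists_nat_of_mem_closure P b h
    rw [RootPairing.Base.isPos_iff', RootPairing.Base.height_eq_sum hf]
    exact Finset.sum_nonneg fun j _ => Int.natCast_nonneg _
  · intro h
    rcases b.root_mem_or_neg_mem a with h1 | h1
    · exact h1
    · exfalso
      obtain ⟨f, hf⟩ := exists_nat_of_mem_closure P b h1
      have h2 : P.root a = ∑ j ∈ b.support, (-(f j : ℤ)) • P.root j := by
        rw [← neg_neg (P.root a), hf, ← Finset.sum_neg_distrib]
        refine Finset.sum_congr rfl fun j _ => ?_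
        rw [neg_smul]
      rw [RootPairing.Base.isPos_iff, RootPairing.Base.height_eq_sum h2] at h
      have h3 : ∑ j ∈ b.support, (-(f j : ℤ)) ≤ 0 :=
        Finset.sum_nonpos fun j _ => by simp
      omega


/-- Negative roots in the sense of `RedSub.negRoots`. -/
theorem mem_negRoots_iff (a : idx) : a ∈ _root_.RedSub.negRoots P b ↔ ¬ b.IsPos a := by
  rw [← mem_posRoots_iff]
  constructor
  · intro h h'
    rw [mem_posRoots_iff] at h'
    obtain ⟨f, hf⟩ := exists_nat_of_mem_closure P b h
    have h2 : P.root a = ∑ j ∈ b.support, (-(f j : ℤ)) • P.root j := by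
      rw [← neg_neg (P.root a), hf, ← Finset.sum_neg_distrib]
      refine Finset.sum_congr rfl fun j _ => ?_
      rw [neg_smul]
    rw [RootPairing.Base.isPos_iff, RootPairing.Base.height_eq_sum h2] at h'
    have h3 : ∑ j ∈ b.support, (-(f j : ℤ)) ≤ 0 :=
      Finset.sum_nonpos fun j _ => by simp
    omega
  · intro h
    rcases b.root_mem_or_neg_mem a with h1 | h1
    · exact absurd h1 h
    · exact h1

/-- The positive roots are the roots on which a functional that is positive on them is positive. -/
theorem mem_posRoots_iff_of_functional (f : M →+ ℤ) (hf : ∀ a, b.IsPos a ↔ 0 < f (P.root a))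
    (a : idx) : a ∈ _root_.RedSub.posRoots P b ↔ 0 < f (P.root a) :=
  (mem_posRoots_iff P b a).trans (hf a)

end Groth.Agent.RedSub.H670.PosRoots
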